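import Groth.Agent.QSplitLib.Nbhd
import Groth.Agent.FinGrpdLib.Points2

/-!
The points of a groupoid scheme related to a point with finitely many arrows starting at it.
-/

set_option autoImplicit false
set_option linter.style.haveILetI false
universe u

open CategoryTheory CategoryTheory.Limits AlgebraicGeometry TopologicalSpace
open Groth.Agent.FinGrpdLib

namespace Groth.Agent.FinPartGrpdLib

/-- A point is isolated in its fibre. -/
def Isolated {X Y : Scheme.{u}} (f : X ⟶ Y) (x : X) : Prop :=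
  ∃ V : X.Opens, x ∈ V ∧ ∀ z ∈ V, f z = f x → z = x

theorem quasiFiniteAt_of_isolated {X Y : Scheme.{u}} (f : X ⟶ Y) [LocallyOfFiniteType f] {x : X}
    (h : Isolated f x) : f.QuasiFiniteAt x := by
  rw [Scheme.Hom.quasiFiniteAt_iff_isOpen_singleton_asFiber]
  obtain ⟨V, hxV, hV⟩ := h
  convert V.2.preimage (f.fiberι (f x)).continuous using 1
  ext z
  constructor
  · rintro rfl
    show f.fiberι _ (f.asFiber x) ∈ V
    rw [f.fiberι_asFiber]; exact hxV
  · intro hz
    have hfz : f (f.fiberι (f x) z) = f x := (Set.ext_iff.1 (f.range_fiberι (f x)) _).1 ⟨z, rfl⟩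
    exact (f.fiberι (f x)).isEmbedding.injective ((hV _ hz hfz).trans (f.fiberι_asFiber x).symm)

theorem discreteTopology_fiber {X Y : Scheme.{u}} (f : X ⟶ Y) [LocallyOfFiniteType f] (y : Y)
    (h : (⇑f ⁻¹' {y}).Finite) : Finite (f.fiber y) ∧ DiscreteTopology (f.fiber y) := by
  haveI : Finite ↥(⇑f ⁻¹' {y}) := h.to_subtype
  haveI : Finite (f.fiber y) := Finite.of_equiv _ (f.fiberHomeo y).symm.toEquiv
  haveI : LocallyOfFiniteType (f.fiberToSpecResidueField y) :=
    MorphismProperty.pullback_snd (P := @LocallyOfFiniteType) _ _ ‹_›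
  haveI : JacobsonSpace (f.fiber y) := LocallyOfFiniteType.jacobsonSpace (f.fiberToSpecResidueField y)
  exact ⟨inferInstance, inferInstance⟩

/-- A finite fibre over an isolated point consists of isolated points. -/
theorem isolated_comp {X Y Z : Scheme.{u}} (f : X ⟶ Y) [LocallyOfFiniteType f] (g : Y ⟶ Z) {x : X}
    (hy : Isolated g (f x)) (hfin : (⇑f ⁻¹' {f x}).Finite) : Isolated (f ≫ g) x := by
  obtain ⟨-, hd⟩ := discreteTopology_fiber f (f x) hfin
  obtain ⟨O, hO, hO'⟩ := (f.fiberι (f x)).isEmbedding.isInducing.isOpen_iff.1 (isOpen_discrete {f.asFiber x})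
  obtain ⟨V, hyV, hV⟩ := hy
  refine ⟨⟨O, hO⟩ ⊓ f ⁻¹ᵁ V, ⟨?_, hyV⟩, fun z ⟨hzO, hzV⟩ hz => ?_⟩
  · have h : f.asFiber x ∈ ⇑(f.fiberι (f x)) ⁻¹' O := by rw [hO']; rfl
    rwa [Set.mem_preimage, f.fiberι_asFiber] at h
  · have hfz : f z = f x := hV _ hzV hz
    obtain ⟨w, rfl⟩ : z ∈ Set.range (f.fiberι (f x)) := by rw [f.range_fiberι]; exact hfz
    have h : w ∈ ({f.asFiber x} : Set _) := by rw [← hO']; exact hzO
    rw [Set.mem_singleton_iff.1 h, f.fiberι_asFiber]

/-- The image of an isolated point under an open map over the base is isolated. -/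
theorem isolated_image {X Y Z : Scheme.{u}} (f : X ⟶ Y) (g : Y ⟶ Z) (hf : IsOpenMap f) {x : X}
    (h : Isolated (f ≫ g) x) : Isolated g (f x) := by
  obtain ⟨V, hxV, hV⟩ := h
  refine ⟨⟨f '' V, hf _ V.2⟩, ⟨x, hxV, rfl⟩, ?_⟩
  rintro _ ⟨z, hz, rfl⟩ he
  rw [hV z hz he]

variable {S : Scheme.{u}} (G : Grpd.GroupoidScheme S)

/-- The points joined to a point by an arrow. -/
def orbit (u : G.U) : Set G.U := ⇑G.t '' (⇑G.s ⁻¹' {u})

variable {G} {u : G.U}

/-- Pairs of arrows starting at a point with finitely many arrows form a finite set. -/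
theorem finite_pairs [LocallyOfFiniteType G.s] (hfin : (⇑G.s ⁻¹' {u}).Finite) :
    {w : ↑(pullback G.s G.s) | G.s (pullback.fst G.s G.s w) = u}.Finite := by
  obtain ⟨hF, hd⟩ := discreteTopology_fiber G.s u hfin
  let π := G.s.fiberToSpecResidueField u
  haveI : LocallyOfFiniteType π := MorphismProperty.pullback_snd (P := @LocallyOfFiniteType) _ _ ‹_›
  haveI : LocallyQuasiFinite π := by
    refine LocallyQuasiFinite.of_finite_preimage_singleton π fun _ => Set.toFinite _
  haveI : IsFinite π := IsFinite.of_locallyQuasiFinite π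
  haveI : Finite ↑(pullback π π) := by
    refine Set.finite_univ_iff.1 ?_
    have h : IsFinite (pullback.fst π π ≫ π) := inferInstance
    exact ((pullback.fst π π ≫ π).finite_preimage (Set.toFinite Set.univ)).subset fun _ _ => trivial
  let a : pullback π π ⟶ pullback G.s G.s := pullback.map π π G.s G.s (G.s.fiberι u) (G.s.fiberι u)
    (G.U.fromSpecResidueField u) pullback.condition.symm pullback.condition.symm
  refine (Set.finite_range a).subset fun w hw => ?_
  rw [Scheme.Pullback.range_map, G.s.range_fiberι]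
  refine ⟨hw, ?_⟩
  show G.s (pullback.snd G.s G.s w) = u
  rw [← Scheme.Hom.comp_apply, ← pullback.condition]; exact hw

/-- Arrows starting in the orbit of a point with finitely many arrows: they end in the orbit, and are finite in number. -/
theorem orbit_spec [LocallyOfFiniteType G.s] (hfin : (⇑G.s ⁻¹' {u}).Finite) :
    (⇑G.s ⁻¹' orbit G u).Finite ∧ ∀ r, G.s r ∈ orbit G u → G.t r ∈ orbit G u := by
  let P := pullback G.s G.s
  have hP : pullback.fst G.s G.s ≫ G.s = (pullback.snd G.s G.s ≫ G.i) ≫ G.t := by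
    rw [Category.assoc, G.i_t]; exact pullback.condition
  let μ : P ⟶ G.R := mul G (pullback.fst G.s G.s) (pullback.snd G.s G.s ≫ G.i) hP
  let Θ : pullback G.s G.t ⟶ P :=
    pullback.lift (mul G (pullback.fst _ _) (pullback.snd _ _) pullback.condition) (pullback.snd _ _)
      (mul_s _)
  have hΘ : Θ ≫ μ = pullback.fst G.s G.t := by
    rw [comp_mul, mul_congr (pullback.lift_fst _ _ _) (show Θ ≫ pullback.snd G.s G.s ≫ G.i = pullback.snd _ _ ≫ G.i by
      rw [← Category.assoc, pullback.lift_snd])]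
    refine (G.assoc _ _ _ pullback.condition (by rw [Category.assoc, G.i_t])).trans ?_
    refine (mul_congr rfl ?_ _).trans (G.comp_e _)
    refine (G.comp_i _).trans ?_
    rw [← Category.assoc (pullback.fst G.s G.t), pullback.condition, Category.assoc]
  have key : ∀ r, G.s r ∈ orbit G u → (∃ w : P, G.s (pullback.fst G.s G.s w) = u ∧ μ w = r) ∧ G.t r ∈ orbit G u := by
    rintro r ⟨r₀, hr₀, h⟩
    obtain ⟨z, rfl, hz⟩ := Scheme.Pullback.exists_preimage_pullback (f := G.s) (g := G.t) r r₀ h.symm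
    have hcs : G.s (pullback.fst G.s G.s (Θ z)) = u := by
      rw [← Scheme.Hom.comp_apply Θ, pullback.lift_fst, ← Scheme.Hom.comp_apply, mul_s, Scheme.Hom.comp_apply, hz]
      exact hr₀
    refine ⟨⟨Θ z, hcs, ?_⟩, pullback.fst G.s G.s (Θ z), hcs, ?_⟩
    · rw [← Scheme.Hom.comp_apply, hΘ]
    · rw [← Scheme.Hom.comp_apply Θ, pullback.lift_fst, ← Scheme.Hom.comp_apply, mul_t, Scheme.Hom.comp_apply]
  refine ⟨((finite_pairs hfin).image μ).subset fun r hr => ?_, fun r hr => (key r hr).2⟩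
  obtain ⟨w, hw, hwr⟩ := (key r hr).1
  exact ⟨w, hw, hwr⟩

theorem self_mem_orbit : u ∈ orbit G u :=
  ⟨G.e u, show G.s (G.e u) = u by rw [← Scheme.Hom.comp_apply, G.e_s]; rfl,
    show G.t (G.e u) = u by rw [← Scheme.Hom.comp_apply, G.e_t]; rfl⟩

theorem over_of_arrow (r : G.R) : G.pU (G.t r) = G.pU (G.s r) := by
  rw [← Scheme.Hom.comp_apply, ← Scheme.Hom.comp_apply, G.t_over, G.s_over]

/-- The orbit and the arrows starting in it consist of isolated points. -/
theorem orbit_isolated [LocallyOfFiniteType G.s] [Flat G.t] [LocallyOfFinitePresentation G.t] {p : S}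
    (hu : G.pU u = p) (hiso : Isolated G.pU u) (hfin : (⇑G.s ⁻¹' {u}).Finite) :
    (∀ y ∈ orbit G u, G.pU y = p ∧ Isolated G.pU y) ∧
      ∀ r, G.s r ∈ orbit G u → G.pR r = p ∧ Isolated G.pR r := by
  have hO : ∀ y ∈ orbit G u, G.pU y = p ∧ Isolated G.pU y := by
    rintro _ ⟨r, hr, rfl⟩
    have hr' : G.s r = u := hr
    refine ⟨by rw [over_of_arrow, hr', hu], isolated_image G.t G.pU G.t.isOpenMap ?_⟩
    rw [G.t_over, ← G.s_over]
    exact isolated_comp G.s G.pU (hr' ▸ hiso) (hr' ▸ hfin)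
  refine ⟨hO, fun r hr => ?_⟩
  rw [← G.s_over]
  refine ⟨by rw [Scheme.Hom.comp_apply]; exact (hO _ hr).1, isolated_comp G.s G.pU (hO _ hr).2 ?_⟩
  exact (orbit_spec hfin).1.subset fun z hz => show G.s z ∈ orbit G u from (Set.mem_singleton_iff.1 hz).symm ▸ hr

end Groth.Agent.FinPartGrpdLib
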