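import Groth.Agent.FinPartGrpdLib.Fibre

/-!
Finite open and closed parts of a groupoid scheme over an elementary etale neighbourhood of the base.
-/

set_option autoImplicit false
set_option backward.isDefEq.respectTransparency false
set_option linter.style.haveILetI false
universe u

open CategoryTheory CategoryTheory.Limits AlgebraicGeometry TopologicalSpace
open Groth.Agent.FinGrpdLib Groth.Agent.EtaleSplit

namespace Groth.Agent.FinPartGrpdLib

variable {S : Scheme.{u}} (G : Grpd.GroupoidScheme S) {T : Scheme.{u}} (g : T ⟶ S)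

/-- The base change of the source. -/
noncomputable abbrev sT : pullback G.pR g ⟶ pullback G.pU g :=
  pullback.map G.pR g G.pU g G.s (𝟙 T) (𝟙 S) ((Category.comp_id _).trans G.s_over.symm)
    ((Category.comp_id _).trans (Category.id_comp _).symm)

/-- The base change of the target. -/
noncomputable abbrev tT : pullback G.pR g ⟶ pullback G.pU g :=
  pullback.map G.pR g G.pU g G.t (𝟙 T) (𝟙 S) ((Category.comp_id _).trans G.t_over.symm)
    ((Category.comp_id _).trans (Category.id_comp _).symm)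

theorem sT_fst (z) : pullback.fst G.pU g (sT G g z) = G.s (pullback.fst G.pR g z) :=
  congrArg (fun k : pullback G.pR g ⟶ G.U => k z) (pullback.lift_fst _ _ _)

theorem tT_fst (z) : pullback.fst G.pU g (tT G g z) = G.t (pullback.fst G.pR g z) :=
  congrArg (fun k : pullback G.pR g ⟶ G.U => k z) (pullback.lift_fst _ _ _)

theorem sT_snd : sT G g ≫ pullback.snd G.pU g = pullback.snd G.pR g :=
  (pullback.lift_snd _ _ _).trans (Category.comp_id _)

theorem tT_snd : tT G g ≫ pullback.snd G.pU g = pullback.snd G.pR g :=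
  (pullback.lift_snd _ _ _).trans (Category.comp_id _)

/-- Finite open and closed parts cutting out the orbit in the fibre over the marked point. -/
structure Parts (Ω : Set G.U) (p : S) (t : T) (U' : (pullback G.pU g).Opens) (R' : (pullback G.pR g).Opens) : Prop where
  nbhd : Hens2.IsEtaleNbhd g t p
  closedU : IsClosed (U' : Set ↑(pullback G.pU g))
  closedR : IsClosed (R' : Set ↑(pullback G.pR g))
  finU : IsFinite (U'.ι ≫ pullback.snd G.pU g)
  finR : IsFinite (R'.ι ≫ pullback.snd G.pR g)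
  fibreU : ∀ q, pullback.snd G.pU g q = t → (q ∈ U' ↔ pullback.fst G.pU g q ∈ Ω)
  fibreR : ∀ q, pullback.snd G.pR g q = t → (q ∈ R' ↔ G.s (pullback.fst G.pR g q) ∈ Ω)
  mapS : ⇑(sT G g) '' (R' : Set ↑(pullback G.pR g)) ⊆ U'
  mapT : ⇑(tT G g) '' (R' : Set ↑(pullback G.pR g)) ⊆ U'

variable {G}

theorem isFinite_of_le {X Y : Scheme.{u}} (f : X ⟶ Y) {V W : X.Opens} (h : V ≤ W) [IsFinite (W.ι ≫ f)]
    (hV : IsClosed (V : Set X)) : IsFinite (V.ι ≫ f) := by
  have hr : IsClosed (Set.range (X.homOfLE h)) := by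
    have e : Set.range (X.homOfLE h) = ⇑W.ι ⁻¹' (V : Set X) := by
      ext z
      constructor
      · rintro ⟨a, rfl⟩
        show W.ι (X.homOfLE h a) ∈ V
        rw [← Scheme.Hom.comp_apply, Scheme.homOfLE_ι]; exact a.2
      · intro hz
        refine ⟨⟨z.1, hz⟩, W.ι.isOpenEmbedding.injective ?_⟩
        rw [← Scheme.Hom.comp_apply, Scheme.homOfLE_ι]; rfl
    rw [e]; exact hV.preimage W.ι.continuous
  haveI : IsClosedImmersion (X.homOfLE h) := .of_isPreimmersion _ hr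
  have e : X.homOfLE h ≫ W.ι ≫ f = V.ι ≫ f := by rw [Scheme.homOfLE_ι_assoc]
  rw [← e]; infer_instance

/-- Transport of parts along a further neighbourhood. -/
theorem Parts.pull {Ω : Set G.U} {p : S} {t : T} {g : T ⟶ S} {U' : (pullback G.pU g).Opens} {R' : (pullback G.pR g).Opens} (h : Parts G g Ω p t U' R')
    {T₁ : Scheme.{u}} (k : T₁ ⟶ T) (t₁ : T₁) (hk : k t₁ = t) (hnb : Hens2.IsEtaleNbhd (k ≫ g) t₁ p) :
    Parts G (k ≫ g) Ω p t₁
      (pullback.map G.pU (k ≫ g) G.pU g (𝟙 _) k (𝟙 _) (by simp) (by simp) ⁻¹ᵁ U')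
      (pullback.map G.pR (k ≫ g) G.pR g (𝟙 _) k (𝟙 _) (by simp) (by simp) ⁻¹ᵁ R') := by
  haveI := h.finU
  haveI := h.finR
  have hmU := isPullback_pullbackMap G.pU g (k ≫ g) k rfl
  have hmR := isPullback_pullbackMap G.pR g (k ≫ g) k rfl
  let mU := pullback.map G.pU (k ≫ g) G.pU g (𝟙 _) k (𝟙 _) (by simp) (by simp)
  let mR := pullback.map G.pR (k ≫ g) G.pR g (𝟙 _) k (𝟙 _) (by simp) (by simp)
  have hfU : ∀ q, pullback.fst G.pU g (mU q) = pullback.fst G.pU (k ≫ g) q := fun q =>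
    congrArg (fun m : pullback G.pU (k ≫ g) ⟶ G.U => m q) ((pullback.lift_fst _ _ _).trans (Category.comp_id _))
  have hfR : ∀ q, pullback.fst G.pR g (mR q) = pullback.fst G.pR (k ≫ g) q := fun q =>
    congrArg (fun m : pullback G.pR (k ≫ g) ⟶ G.R => m q) ((pullback.lift_fst _ _ _).trans (Category.comp_id _))
  have hms : sT G (k ≫ g) ≫ mU = mR ≫ sT G g := by
    apply pullback.hom_ext <;> simp [pullback.map, mU, mR, sT]
  have hmt : tT G (k ≫ g) ≫ mU = mR ≫ tT G g := by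
    apply pullback.hom_ext <;> simp [pullback.map, mU, mR, tT]
  refine ⟨hnb, h.closedU.preimage mU.continuous, h.closedR.preimage mR.continuous,
    isFinite_preimage hmU U', isFinite_preimage hmR R', fun q hq => ?_, fun q hq => ?_, ?_, ?_⟩
  · rw [Scheme.Hom.mem_preimage, h.fibreU (mU q) (by
      rw [← Scheme.Hom.comp_apply, hmU.w, Scheme.Hom.comp_apply, hq, hk]), hfU]
  · rw [Scheme.Hom.mem_preimage, h.fibreR (mR q) (by
      rw [← Scheme.Hom.comp_apply, hmR.w, Scheme.Hom.comp_apply, hq, hk]), hfR]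
  · rintro _ ⟨q, hq, rfl⟩
    show mU (sT G (k ≫ g) q) ∈ U'
    rw [← Scheme.Hom.comp_apply, hms, Scheme.Hom.comp_apply]
    exact h.mapS ⟨_, hq, rfl⟩
  · rintro _ ⟨q, hq, rfl⟩
    show mU (tT G (k ≫ g) q) ∈ U'
    rw [← Scheme.Hom.comp_apply, hmt, Scheme.Hom.comp_apply]
    exact h.mapT ⟨_, hq, rfl⟩

/-- The orbit and the arrows starting in it form finite parts over an elementary etale neighbourhood. -/
theorem exists_parts [LocallyOfFiniteType G.pU] [IsSeparated G.pU] [IsSeparated G.pR]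
    [LocallyOfFinitePresentation G.s] [Flat G.t] [LocallyOfFinitePresentation G.t] {u : G.U} {p : S}
    (hu : G.pU u = p) (hiso : Isolated G.pU u) (hfin : (⇑G.s ⁻¹' {u}).Finite) :
    ∃ (T : Scheme.{u}) (g : T ⟶ S) (t : T) (U' : (pullback G.pU g).Opens) (R' : (pullback G.pR g).Opens),
      Parts G g (orbit G u) p t U' R' := by
  haveI : LocallyOfFiniteType G.pR := by rw [← G.s_over]; infer_instance
  obtain ⟨hUiso, hRiso⟩ := orbit_isolated hu hiso hfin
  obtain ⟨hRfin, hst⟩ := orbit_spec (G := G) hfin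
  obtain ⟨T₁, g₁, t₁, hnb₁, W₁, hW₁fin, hW₁⟩ := QSplitLib.exists_etale_part G.pU p (hfin.image G.t)
    (fun y hy => (hUiso y hy).1) (fun y hy => quasiFiniteAt_of_isolated _ (hUiso y hy).2)
  obtain ⟨T₂, g₂, t₂, hnb₂, W₂, hW₂fin, hW₂⟩ := QSplitLib.exists_etale_part G.pR p hRfin
    (fun r hr => (hRiso r hr).1) (fun r hr => quasiFiniteAt_of_isolated _ (hRiso r hr).2)
  haveI := hnb₁.etale
  haveI := hnb₂.etale
  obtain ⟨q₁, hq₁, hp₁⟩ := exists_lift_of_residue_bijective g₁ t₁ hnb₁.residue_bijective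
    (K := S.residueField p) (S.fromSpecResidueField p)
    (hnb₁.base_eq.trans (Scheme.fromSpecResidueField_apply p _).symm)
  obtain ⟨q₂, hq₂, hp₂⟩ := exists_lift_of_residue_bijective g₂ t₂ hnb₂.residue_bijective
    (K := S.residueField p) (S.fromSpecResidueField p)
    (hnb₂.base_eq.trans (Scheme.fromSpecResidueField_apply p _).symm)
  let T := pullback g₁ g₂
  let g := pullback.fst g₁ g₂ ≫ g₁
  let k₁ : T ⟶ T₁ := pullback.fst g₁ g₂
  let k₂ : T ⟶ T₂ := pullback.snd g₁ g₂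
  have hk₂ : k₂ ≫ g₂ = g := pullback.condition.symm
  let σ : Spec (S.residueField p) ⟶ T := pullback.lift q₁ q₂ (hq₁.trans hq₂.symm)
  have hσ : σ ≫ g = S.fromSpecResidueField p := by
    simp only [σ, g, pullback.lift_fst_assoc]; exact hq₁
  obtain ⟨hgt, hbij⟩ := residue_bijective_of_section g p σ hσ
  let t : T := σ (IsLocalRing.closedPoint _)
  have hkt₁ : k₁ t = t₁ := by
    rw [← hp₁]; exact congrArg (fun m => m (IsLocalRing.closedPoint _)) (show σ ≫ k₁ = q₁ from pullback.lift_fst _ _ _)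
  have hkt₂ : k₂ t = t₂ := by
    rw [← hp₂]; exact congrArg (fun m => m (IsLocalRing.closedPoint _)) (show σ ≫ k₂ = q₂ from pullback.lift_snd _ _ _)
  let mU := pullback.map G.pU g G.pU g₁ (𝟙 _) k₁ (𝟙 _) (by simp) (by simp [g, k₁])
  let mR := pullback.map G.pR g G.pR g₂ (𝟙 _) k₂ (𝟙 _) (by simp) (by simp [hk₂])
  have hmU := isPullback_pullbackMap G.pU g₁ g k₁ rfl
  have hmR := isPullback_pullbackMap G.pR g₂ g k₂ hk₂
  haveI : IsFinite ((mU ⁻¹ᵁ W₁).ι ≫ pullback.snd G.pU g) := isFinite_preimage hmU W₁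
  haveI : IsFinite ((mR ⁻¹ᵁ W₂).ι ≫ pullback.snd G.pR g) := isFinite_preimage hmR W₂
  let U' := mU ⁻¹ᵁ W₁
  let R' := mR ⁻¹ᵁ W₂ ⊓ sT G g ⁻¹ᵁ U' ⊓ tT G g ⁻¹ᵁ U'
  haveI : IsSeparated (pullback.snd G.pU g) := MorphismProperty.pullback_snd (P := @IsSeparated) _ _ ‹_›
  haveI : IsSeparated (pullback.snd G.pR g) := MorphismProperty.pullback_snd (P := @IsSeparated) _ _ ‹_›
  have hclU : IsClosed (U' : Set ↑(pullback G.pU g)) := EtaleSplit.isClosed_of_isFinite_comp (pullback.snd G.pU g) _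
  have hclR : IsClosed (R' : Set ↑(pullback G.pR g)) :=
    ((EtaleSplit.isClosed_of_isFinite_comp (pullback.snd G.pR g) (mR ⁻¹ᵁ W₂)).inter
      (hclU.preimage (sT G g).continuous)).inter (hclU.preimage (tT G g).continuous)
  have hU : ∀ q, pullback.snd G.pU g q = t → (q ∈ U' ↔ pullback.fst G.pU g q ∈ orbit G u) := fun q hq => by
    have h1 : pullback.fst G.pU g₁ (mU q) = pullback.fst G.pU g q := congrArg (fun m : pullback G.pU g ⟶ G.U => m q)
      ((pullback.lift_fst _ _ _).trans (Category.comp_id _))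
    rw [← h1]
    refine hW₁ _ ?_
    rw [← Scheme.Hom.comp_apply, hmU.w, Scheme.Hom.comp_apply, hq, hkt₁]
  refine ⟨T, g, t, U', R', ⟨inferInstanceAs (Etale (pullback.fst g₁ g₂ ≫ g₁)), hgt, hbij⟩, hclU, hclR, ‹_›,
    isFinite_of_le _ (show R' ≤ mR ⁻¹ᵁ W₂ from fun x hx => hx.1.1) hclR, hU, fun q hq => ?_, ?_, ?_⟩
  · have h1 : pullback.fst G.pR g₂ (mR q) = pullback.fst G.pR g q := congrArg (fun m : pullback G.pR g ⟶ G.R => m q)
      ((pullback.lift_fst _ _ _).trans (Category.comp_id _))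
    have h2 : mR q ∈ W₂ ↔ G.s (pullback.fst G.pR g q) ∈ orbit G u := by
      rw [← h1]
      refine hW₂ _ ?_
      rw [← Scheme.Hom.comp_apply, hmR.w, Scheme.Hom.comp_apply, hq, hkt₂]
    refine ⟨fun h => h2.1 h.1.1, fun h => ⟨⟨h2.2 h, ?_⟩, ?_⟩⟩
    · show sT G g q ∈ U'
      rw [hU _ (by rw [← Scheme.Hom.comp_apply, sT_snd, hq]), sT_fst]; exact h
    · show tT G g q ∈ U'
      rw [hU _ (by rw [← Scheme.Hom.comp_apply, tT_snd, hq]), tT_fst]; exact hst _ h
  · rintro _ ⟨q, hq, rfl⟩; exact hq.1.2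
  · rintro _ ⟨q, hq, rfl⟩; exact hq.2

/-- For a universally closed `(t, s)` the part of the arrows is the full restriction to the part of the objects. -/
theorem Parts.exists_full {g : T ⟶ S} [UniversallyClosed G.j] {u : G.U} {p : S} {t : T}
    {U' : (pullback G.pU g).Opens} {R' : (pullback G.pR g).Opens} (h : Parts G g (orbit G u) p t U' R') :
    ∃ (T₁ : T.Opens) (t₁ : T₁) (U'' : (pullback G.pU (T₁.ι ≫ g)).Opens) (R'' : (pullback G.pR (T₁.ι ≫ g)).Opens),
      Parts G (T₁.ι ≫ g) (orbit G u) p t₁ U'' R'' ∧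
      (R'' : Set ↑(pullback G.pR (T₁.ι ≫ g))) = ⇑(sT G (T₁.ι ≫ g)) ⁻¹' U'' ∩ ⇑(tT G (T₁.ι ≫ g)) ⁻¹' U'' := by
  haveI := h.nbhd.etale
  haveI := h.finU
  let p₁ := pullback.fst G.pU G.pU
  have hjp : G.j ≫ p₁ ≫ G.pU = G.pR := by
    rw [← Category.assoc]; exact (congrArg (· ≫ G.pU) (pullback.lift_fst _ _ _)).trans G.t_over
  let Q := pullback (p₁ ≫ G.pU) g
  let π₁ : Q ⟶ pullback G.pU g := pullback.map _ _ _ _ p₁ (𝟙 _) (𝟙 _) (by simp) (by simp)
  let π₂ : Q ⟶ pullback G.pU g := pullback.map _ _ _ _ (pullback.snd G.pU G.pU) (𝟙 _) (𝟙 _)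
    (by simp [p₁, pullback.condition]) (by simp)
  let jT : pullback G.pR g ⟶ Q := pullback.map _ _ _ _ G.j (𝟙 _) (𝟙 _)
    (by rw [Category.comp_id, hjp]) (by simp)
  have hjT : IsPullback jT (pullback.fst G.pR g) (pullback.fst (p₁ ≫ G.pU) g) G.j := by
    refine IsPullback.of_right (h₁₂ := pullback.snd (p₁ ≫ G.pU) g) (v₁₃ := g) (h₂₂ := p₁ ≫ G.pU) ?_
      (pullback.lift_fst _ _ _) (IsPullback.of_hasPullback _ _).flip
    rw [show jT ≫ pullback.snd (p₁ ≫ G.pU) g = pullback.snd G.pR g from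
      (pullback.lift_snd _ _ _).trans (Category.comp_id _)]
    rw [hjp]
    exact (IsPullback.of_hasPullback G.pR g).flip
  haveI : UniversallyClosed jT := MorphismProperty.of_isPullback hjT.flip ‹_›
  have hj₁ : jT ≫ π₁ = tT G g := by
    apply pullback.hom_ext <;> simp [pullback.map, jT, π₁, tT, p₁, Grpd.GroupoidScheme.j]
  have hj₂ : jT ≫ π₂ = sT G g := by
    apply pullback.hom_ext <;> simp [pullback.map, jT, π₂, sT, Grpd.GroupoidScheme.j]
  let r₀ := U'.ι ≫ pullback.snd G.pU g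
  let E := pullback r₀ r₀
  let α₁ := pullback.fst r₀ r₀ ≫ U'.ι
  let α₂ := pullback.snd r₀ r₀ ≫ U'.ι
  have hα : α₁ ≫ pullback.snd G.pU g = α₂ ≫ pullback.snd G.pU g := by
    simp only [α₁, α₂, Category.assoc]; exact pullback.condition
  let m : E ⟶ Q := pullback.lift
    (pullback.lift (α₁ ≫ pullback.fst G.pU g) (α₂ ≫ pullback.fst G.pU g)
      (by simp only [Category.assoc, pullback.condition]; rw [reassoc_of% hα]))
    (α₁ ≫ pullback.snd G.pU g)
    (by simp [p₁, pullback.condition]; exact (congrArg (· ≫ g) hα.symm |>.trans (Category.assoc _ _ _)) |> (fun e => (Category.assoc _ _ _).symm.trans e))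
  have hm₁ : m ≫ π₁ = α₁ := by apply pullback.hom_ext <;> simp [pullback.map, m, π₁, p₁]
  have hm₂ : m ≫ π₂ = α₂ := by
    apply pullback.hom_ext
    · simp [pullback.map, m, π₂]
    · simp [pullback.map, m, π₂, hα]
  let Z : Set ↑(pullback G.pR g) :=
    (⇑(sT G g) ⁻¹' U' ∩ ⇑(tT G g) ⁻¹' U') ∩ (R' : Set ↑(pullback G.pR g))ᶜ
  have hZ : IsClosed Z := ((h.closedU.preimage (sT G g).continuous).inter
    (h.closedU.preimage (tT G g).continuous)).inter R'.2.isClosed_compl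
  have hρ : ∀ z, (m ≫ pullback.snd (p₁ ≫ G.pU) g) z = (pullback.fst r₀ r₀ ≫ r₀) z := fun z => by
    refine congrArg (fun k : E ⟶ T => k z) ?_
    simp [m, α₁, r₀]
  haveI : IsFinite (pullback.fst r₀ r₀ ≫ r₀) := inferInstance
  have hcl : IsClosed (⇑(pullback.snd G.pR g) '' Z) := by
    have h1 := (pullback.fst r₀ r₀ ≫ r₀).isClosedMap _ ((jT.isClosedMap _ hZ).preimage m.continuous)
    convert h1 using 1
    ext x
    constructor
    · rintro ⟨z, hz, rfl⟩
      let κ : Spec (CommRingCat.of ((pullback G.pR g).residueField z)) ⟶ pullback G.pR g :=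
        (pullback G.pR g).fromSpecResidueField z
      have hκ : ∀ y, κ y = z := fun y => Scheme.fromSpecResidueField_apply _ _
      let l₁ := IsOpenImmersion.lift U'.ι (κ ≫ tT G g) (by
        rw [Scheme.Opens.range_ι]; rintro _ ⟨y, rfl⟩
        show tT G g (κ y) ∈ U'
        rw [hκ]; exact hz.1.2)
      let l₂ := IsOpenImmersion.lift U'.ι (κ ≫ sT G g) (by
        rw [Scheme.Opens.range_ι]; rintro _ ⟨y, rfl⟩
        show sT G g (κ y) ∈ U'
        rw [hκ]; exact hz.1.1)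
      let e : Spec (CommRingCat.of ((pullback G.pR g).residueField z)) ⟶ E := pullback.lift l₁ l₂ (by
        simp only [r₀, l₁, l₂, IsOpenImmersion.lift_fac_assoc, Category.assoc, sT_snd, tT_snd])
      have he₁ : e ≫ m ≫ π₁ = κ ≫ jT ≫ π₁ := by
        rw [hm₁, hj₁]; simp [e, α₁, l₁]
      have he₂ : e ≫ m ≫ π₂ = κ ≫ jT ≫ π₂ := by
        rw [hm₂, hj₂]; simp [e, α₂, l₂]
      have he : e ≫ m = κ ≫ jT := by
        apply pullback.hom_ext
        · apply pullback.hom_ext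
          · simpa [π₁, p₁] using congrArg (· ≫ pullback.fst G.pU g) he₁
          · simpa [π₂] using congrArg (· ≫ pullback.fst G.pU g) he₂
        · simpa [π₁] using congrArg (· ≫ pullback.snd G.pU g) he₁
      refine ⟨e (IsLocalRing.closedPoint _), ⟨z, hz, ?_⟩, ?_⟩
      · rw [← Scheme.Hom.comp_apply e m, he, Scheme.Hom.comp_apply, hκ]
      · rw [← hρ, ← Scheme.Hom.comp_apply e, ← Category.assoc, he, Category.assoc,
          show jT ≫ pullback.snd (p₁ ≫ G.pU) g = pullback.snd G.pR g from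
            (pullback.lift_snd _ _ _).trans (Category.comp_id _), Scheme.Hom.comp_apply, hκ]
    · rintro ⟨w, ⟨z, hz, hzw⟩, rfl⟩
      refine ⟨z, hz, ?_⟩
      rw [← hρ, Scheme.Hom.comp_apply, ← hzw, ← Scheme.Hom.comp_apply]
      exact congrArg (fun k : pullback G.pR g ⟶ T => k z)
        ((pullback.lift_snd _ _ _).trans (Category.comp_id _)).symm
  have ht : t ∉ ⇑(pullback.snd G.pR g) '' Z := by
    rintro ⟨z, ⟨⟨hzs, -⟩, hzR⟩, hzt⟩
    refine hzR ((h.fibreR z hzt).2 ?_)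
    have h1 := (h.fibreU _ (by rw [← Scheme.Hom.comp_apply, sT_snd, hzt])).1 hzs
    rwa [sT_fst] at h1
  let T₁ : T.Opens := ⟨_, hcl.isOpen_compl⟩
  have hnb : Hens2.IsEtaleNbhd (T₁.ι ≫ g) (⟨t, ht⟩ : T₁) p := by
    refine ⟨inferInstance, h.nbhd.base_eq, ?_⟩
    haveI : IsIso (g.residueFieldMap (T₁.ι ⟨t, ht⟩)) :=
      (ConcreteCategory.isIso_iff_bijective _).2 h.nbhd.residue_bijective
    rw [Scheme.residueFieldMap_comp]
    exact ConcreteCategory.bijective_of_isIso _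
  refine ⟨T₁, ⟨t, ht⟩, _, _, h.pull T₁.ι ⟨t, ht⟩ rfl hnb, ?_⟩
  let mU := pullback.map G.pU (T₁.ι ≫ g) G.pU g (𝟙 _) T₁.ι (𝟙 _) (by simp) (by simp)
  let mR := pullback.map G.pR (T₁.ι ≫ g) G.pR g (𝟙 _) T₁.ι (𝟙 _) (by simp) (by simp)
  have hms : sT G (T₁.ι ≫ g) ≫ mU = mR ≫ sT G g := by apply pullback.hom_ext <;> simp [pullback.map, mU, mR, sT]
  have hmt : tT G (T₁.ι ≫ g) ≫ mU = mR ≫ tT G g := by apply pullback.hom_ext <;> simp [pullback.map, mU, mR, tT]
  ext q
  show mR q ∈ R' ↔ mU (sT G (T₁.ι ≫ g) q) ∈ U' ∧ mU (tT G (T₁.ι ≫ g) q) ∈ U'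
  rw [← Scheme.Hom.comp_apply, hms, Scheme.Hom.comp_apply, ← Scheme.Hom.comp_apply _ mU, hmt, Scheme.Hom.comp_apply]
  refine ⟨fun hq => ⟨h.mapS ⟨_, hq, rfl⟩, h.mapT ⟨_, hq, rfl⟩⟩, fun hq => by_contra fun hn => ?_⟩
  have hT : pullback.snd G.pR g (mR q) ∈ T₁ := by
    rw [← Scheme.Hom.comp_apply, show mR ≫ pullback.snd G.pR g = pullback.snd G.pR (T₁.ι ≫ g) ≫ T₁.ι from
      pullback.lift_snd _ _ _, Scheme.Hom.comp_apply]
    exact (pullback.snd G.pR (T₁.ι ≫ g) q).2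
  exact hT ⟨mR q, ⟨hq, hn⟩, rfl⟩

/-- The fibres of parts in terms of the arrows. -/
theorem Parts.summary {g : T ⟶ S} {u : G.U} {p : S} {t : T} (hu : G.pU u = p)
    {U' : (pullback G.pU g).Opens} {R' : (pullback G.pR g).Opens} (h : Parts G g (orbit G u) p t U' R') :
    (∃ u' : ↑(pullback G.pU g), u' ∈ U' ∧ pullback.fst G.pU g u' = u ∧ pullback.snd G.pU g u' = t) ∧
    (∀ u' : ↑(pullback G.pU g), u' ∈ U' → pullback.fst G.pU g u' = u → pullback.snd G.pU g u' = t →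
      {x : ↑(pullback G.pU g) | x ∈ U' ∧ pullback.snd G.pU g x = t} = ⇑(tT G g) '' (⇑(sT G g) ⁻¹' {u'})) ∧
    {r : ↑(pullback G.pR g) | r ∈ R' ∧ pullback.snd G.pR g r = t} =
      ⇑(sT G g) ⁻¹' {x | x ∈ U' ∧ pullback.snd G.pU g x = t} := by
  refine ⟨?_, fun u' _ hfst hsnd => ?_, ?_⟩
  · obtain ⟨z, hz₁, hz₂⟩ := Scheme.Pullback.exists_preimage_pullback (f := G.pU) (g := g) u t
      (hu.trans h.nbhd.base_eq.symm)
    exact ⟨z, (h.fibreU z hz₂).2 (by rw [hz₁]; exact self_mem_orbit), hz₁, hz₂⟩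
  · ext x
    constructor
    · rintro ⟨hx, hxt⟩
      obtain ⟨r, hr, hrx⟩ := (h.fibreU x hxt).1 hx
      have hr' : G.s r = u := hr
      obtain ⟨z, hz₁, hz₂⟩ := Scheme.Pullback.exists_preimage_pullback (f := G.pR) (g := g) r t (by
        rw [h.nbhd.base_eq, ← G.s_over, Scheme.Hom.comp_apply, hr', hu])
      refine ⟨z, ?_, ?_⟩
      · exact eq_of_fst_snd G.pU g t h.nbhd.residue_bijective _ _ (by rw [sT_fst, hz₁, hr', hfst])
          (by rw [← Scheme.Hom.comp_apply, sT_snd, hz₂]) hsnd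
      · exact eq_of_fst_snd G.pU g t h.nbhd.residue_bijective _ _ (by rw [tT_fst, hz₁, hrx])
          (by rw [← Scheme.Hom.comp_apply, tT_snd, hz₂]) hxt
    · rintro ⟨z, hz, rfl⟩
      have hz' : sT G g z = u' := hz
      have hzt : pullback.snd G.pR g z = t := by rw [← sT_snd, Scheme.Hom.comp_apply, hz', hsnd]
      have h2 : pullback.snd G.pU g (tT G g z) = t := by rw [← Scheme.Hom.comp_apply, tT_snd, hzt]
      refine ⟨(h.fibreU _ h2).2 ?_, h2⟩
      rw [tT_fst]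
      exact ⟨_, show G.s (pullback.fst G.pR g z) = u by rw [← sT_fst, hz', hfst], rfl⟩
  · ext r
    have he : pullback.snd G.pU g (sT G g r) = pullback.snd G.pR g r := by rw [← Scheme.Hom.comp_apply, sT_snd]
    simp only [Set.mem_setOf_eq, Set.mem_preimage, he]
    constructor
    · rintro ⟨hr, hrt⟩
      exact ⟨h.mapS ⟨_, hr, rfl⟩, hrt⟩
    · rintro ⟨hr, hrt⟩
      refine ⟨(h.fibreR r hrt).2 ?_, hrt⟩
      rw [← sT_fst]; exact (h.fibreU _ (he.trans hrt)).1 hr

end Groth.Agent.FinPartGrpdLib
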